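import Groth.Agent.FT23.Thickening
import Groth.Agent.ThickAffine.Main
import Mathlib.AlgebraicGeometry.Morphisms.FinitePresentation
import Mathlib.AlgebraicGeometry.Morphisms.Finite
import Mathlib.AlgebraicGeometry.Morphisms.Proper

/-!
Finiteness descends along thickenings of the base.
-/

set_option autoImplicit false

universe u

open AlgebraicGeometry CategoryTheory

namespace Groth.Agent.FT23

theorem locallyOfFinitePresentation_of_ker_fg {X Y : Scheme.{u}} (j : Y ⟶ X) [IsClosedImmersion j]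
    (hfg : ∀ U : X.affineOpens, (j.ker.ideal U).FG) : LocallyOfFinitePresentation j := by
  rw [HasRingHomProperty.iff_appLE (P := @LocallyOfFinitePresentation)]
  intro U V e
  have h1 : j.appLE U.1 V.1 e = j.app U.1 ≫ (Y.presheaf.map (homOfLE e).op) := rfl
  rw [h1, CommRingCat.hom_comp]
  refine RingHom.FinitePresentation.comp ?_
    (RingHom.FinitePresentation.of_surjective _ (j.app_surjective U U.2) (Scheme.Hom.ker_apply j U ▸ hfg U))
  have h2 := HasRingHomProperty.appLE (P := @LocallyOfFinitePresentation) (𝟙 Y) inferInstance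
    ⟨j ⁻¹ᵁ U.1, U.2.preimage j⟩ V e
  exact h2

theorem ker_fg_of_locallyOfFinitePresentation {X Y : Scheme.{u}} (i : Y ⟶ X) [IsClosedImmersion i]
    [LocallyOfFinitePresentation i] (U : X.affineOpens) : (i.ker.ideal U).FG := by
  have h := HasRingHomProperty.appLE (P := @LocallyOfFinitePresentation) i inferInstance U
    ⟨i ⁻¹ᵁ U.1, U.2.preimage i⟩ le_rfl
  rw [Scheme.Hom.appLE_eq_app] at h
  rw [Scheme.Hom.ker_apply i U]
  letI := (i.app U.1).hom.toAlgebra
  haveI : Algebra.FinitePresentation Γ(X, U) Γ(Y, i ⁻¹ᵁ U) := h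
  exact Algebra.FinitePresentation.ker_fG_of_surjective
    (Algebra.ofId Γ(X, U) Γ(Y, i ⁻¹ᵁ U)) (i.app_surjective U U.2)

theorem isAffineHom_of_comp_thickening {X Y Y₀ : Scheme.{u}} (F : Y ⟶ X) (i : Y₀ ⟶ Y) [IsClosedImmersion i]
    [Surjective i] [IsAffineHom (i ≫ F)] : IsAffineHom F := by
  constructor
  intro U hU
  have h0 : IsAffineOpen ((i ≫ F) ⁻¹ᵁ U) := hU.preimage (i ≫ F)
  haveI : IsAffine ((i ⁻¹ᵁ (F ⁻¹ᵁ U)) : Scheme.{u}) := h0
  haveI : Surjective (i ∣_ (F ⁻¹ᵁ U)) := IsZariskiLocalAtTarget.restrict (P := @Surjective) inferInstance _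
  exact ThickAffine.isAffine_of_surjective (i ∣_ (F ⁻¹ᵁ U)) (Surjective.surj (f := i ∣_ (F ⁻¹ᵁ U)))

end Groth.Agent.FT23
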