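import Groth.Prelude.Def_MoreMor
import Mathlib.AlgebraicGeometry.Morphisms.FiniteType
import Mathlib.AlgebraicGeometry.Morphisms.ClosedImmersion

/-!
Finite type descends along thickenings with finitely generated ideal.
-/

set_option autoImplicit false

universe u

open AlgebraicGeometry CategoryTheory

namespace Groth.Agent.FT23

theorem finiteType_of_nilpotent {A B B₀ : Type u} [CommRing A] [CommRing B] [CommRing B₀] (φ : A →+* B)
    (π : B →+* B₀) (hπ : Function.Surjective π) (hnil : IsNilpotent (RingHom.ker π)) (hfg : (RingHom.ker π).FG)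
    (h : (π.comp φ).FiniteType) : φ.FiniteType := by
  classical
  algebraize [φ, π, π.comp φ]
  obtain ⟨S, hS⟩ := (inferInstance : Algebra.FiniteType A B₀).out
  obtain ⟨T, hT⟩ := hfg
  let C : Subalgebra A B := Algebra.adjoin A ↑(S.image (Function.surjInv hπ) ∪ T)
  have h0 : ∀ b, ∃ c ∈ C, b - c ∈ RingHom.ker π := by
    intro b
    have hle : Algebra.adjoin A (S : Set B₀) ≤ C.map (IsScalarTower.toAlgHom A B B₀) :=
      Algebra.adjoin_le fun s hs => ⟨Function.surjInv hπ s,
        Algebra.subset_adjoin (by simp only [Finset.coe_union, Finset.coe_image]; exact Or.inl ⟨s, hs, rfl⟩),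
        Function.surjInv_eq hπ s⟩
    obtain ⟨c, hc, hcb⟩ := hle (hS.symm ▸ Algebra.mem_top : π b ∈ Algebra.adjoin A (S : Set B₀))
    exact ⟨c, hc, by rw [RingHom.mem_ker, map_sub, sub_eq_zero]; exact hcb.symm⟩
  have hn : ∀ n : ℕ, ∀ b, ∃ c ∈ C, b - c ∈ RingHom.ker π ^ n := by
    intro n
    induction n with
    | zero => exact fun b => ⟨0, C.zero_mem, by simp⟩
    | succ n ih =>
      intro b
      obtain ⟨c, hc, hb⟩ := h0 b
      have hb' : b - c ∈ Submodule.span B (T : Set B) := by rw [← hT] at hb; exact hb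
      obtain ⟨r, hr⟩ := Submodule.mem_span_finset.1 hb'
      choose cr hcr hr' using fun t => ih (r t)
      refine ⟨c + ∑ t ∈ T, cr t * t, C.add_mem hc (C.sum_mem fun t ht => C.mul_mem (hcr t)
        (Algebra.subset_adjoin (by simp only [Finset.coe_union]; exact Or.inr ht))), ?_⟩
      rw [← sub_sub, ← hr.2, ← Finset.sum_sub_distrib, pow_succ]
      refine Submodule.sum_mem _ fun t ht => ?_
      rw [smul_eq_mul, ← sub_mul]
      exact Ideal.mul_mem_mul (hr' t) (hT ▸ Submodule.subset_span ht)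
  obtain ⟨n, hn0⟩ := hnil
  refine ⟨⟨S.image (Function.surjInv hπ) ∪ T, eq_top_iff.2 fun b _ => ?_⟩⟩
  obtain ⟨c, hc, hb⟩ := hn n b
  rw [hn0, Ideal.zero_eq_bot, Ideal.mem_bot, sub_eq_zero] at hb
  exact hb ▸ hc

theorem locallyOfFiniteType_of_comp_thickening {X Y Y₀ : Scheme.{u}} (F : Y ⟶ X) (i : Y₀ ⟶ Y) [IsClosedImmersion i]
    (hinil : ∀ U : Y.affineOpens, IsNilpotent (i.ker.ideal U))
    (hfg : ∀ U : Y.affineOpens, (i.ker.ideal U).FG) (h : LocallyOfFiniteType (i ≫ F)) :
    LocallyOfFiniteType F := by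
  rw [HasRingHomProperty.iff_appLE (P := @LocallyOfFiniteType)]
  intro U V e
  have hker := Scheme.Hom.ker_apply i V
  refine finiteType_of_nilpotent _ (i.app V).hom (i.app_surjective V V.2) (hker ▸ hinil V) (hker ▸ hfg V) ?_
  rw [← CommRingCat.hom_comp]
  have h1 := HasRingHomProperty.appLE (P := @LocallyOfFiniteType) (i ≫ F) h U
    ⟨i ⁻¹ᵁ V.1, V.2.preimage i⟩ (Scheme.Hom.preimage_mono i e)
  rw [i.app_eq_appLE, Scheme.Hom.appLE_comp_appLE]
  exact h1

end Groth.Agent.FT23
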